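import Mathlib
import Groth.Agent.GeomConn.Algebra

/-! Geometric irreducibility of an algebra over a field: reductions to algebraic / separable closure. -/

universe u

open TensorProduct PrimeSpectrum

namespace Groth.Agent.GeomIrred

variable {k R : Type u} [Field k] [CommRing R] [Algebra k R]

lemma of_injective {A B : Type u} [CommRing A] [CommRing B] (f : A →+* B) (hf : Function.Injective f)
    (h : IrreducibleSpace (PrimeSpectrum B)) : IrreducibleSpace (PrimeSpectrum A) := by
  rw [irreducibleSpace_iff_isPrime_nilradical] at h ⊢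
  have : nilradical A = (nilradical B).comap f := by
    ext x
    rw [Ideal.mem_comap, mem_nilradical, mem_nilradical, IsNilpotent.map_iff hf]
  rw [this]
  exact h.comap f

lemma tensor_of_algClosed {Ω T : Type u} [Field Ω] [IsAlgClosed k] [CommRing T] [Algebra k Ω] [Algebra k T]
    (h : IrreducibleSpace (PrimeSpectrum T)) : IrreducibleSpace (PrimeSpectrum (Ω ⊗[k] T)) := by
  rw [irreducibleSpace_iff_isPrime_nilradical] at h ⊢
  let q : T →ₐ[k] T ⧸ nilradical T := Ideal.Quotient.mkₐ k _
  let f : Ω ⊗[k] T →ₐ[k] Ω ⊗[k] (T ⧸ nilradical T) := Algebra.TensorProduct.map (AlgHom.id k Ω) q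
  have := Groth.Agent.GeomConn.isDomain_tensorProduct (k := k) Ω (T ⧸ nilradical T)
  have : nilradical (Ω ⊗[k] T) = RingHom.ker f.toRingHom := by
    refine le_antisymm (fun x hx => ?_) ?_
    · rw [RingHom.mem_ker]
      exact (IsNilpotent.eq_zero ((mem_nilradical.1 hx).map f.toRingHom))
    · intro x hx
      have hker : RingHom.ker f.toRingHom = (RingHom.ker q.toRingHom).map (Algebra.TensorProduct.includeRight : T →ₐ[k] Ω ⊗[k] T).toRingHom :=
        Algebra.TensorProduct.lTensor_ker q Ideal.Quotient.mk_surjective
      rw [hker] at hx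
      refine (Ideal.map_le_iff_le_comap.2 fun t ht => ?_) hx
      have ht' : t ∈ nilradical T := by
        rwa [RingHom.mem_ker, AlgHom.toRingHom_eq_coe, RingHom.coe_coe, Ideal.Quotient.mkₐ_eq_mk,
          Ideal.Quotient.eq_zero_iff_mem] at ht
      exact mem_nilradical.2 ((mem_nilradical.1 ht').map _)
  rw [this]
  exact RingHom.ker_isPrime f.toRingHom

/-- Irreducibility over an algebraic closure gives irreducibility over every extension. -/
theorem of_algClosure (h : IrreducibleSpace (PrimeSpectrum (AlgebraicClosure k ⊗[k] R)))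
    (k' : Type u) [Field k'] [Algebra k k'] : IrreducibleSpace (PrimeSpectrum (k' ⊗[k] R)) := by
  let Ω := AlgebraicClosure k'
  let σ : AlgebraicClosure k →ₐ[k] Ω := IsAlgClosed.lift
  let := σ.toRingHom.toAlgebra
  have : IsScalarTower k (AlgebraicClosure k) Ω :=
    IsScalarTower.of_algebraMap_eq fun x => (σ.commutes x).symm
  have h1 := tensor_of_algClosed (k := AlgebraicClosure k) (Ω := Ω) h
  let e := (Algebra.TensorProduct.cancelBaseChange k (AlgebraicClosure k) (AlgebraicClosure k) Ω R).toRingEquiv
  let f : k' ⊗[k] R →ₐ[k] Ω ⊗[k] R := Algebra.TensorProduct.map (IsScalarTower.toAlgHom k k' Ω) (AlgHom.id k R)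
  have hf : Function.Injective f :=
    Module.Flat.rTensor_preserves_injective_linearMap (M := R)
      (IsScalarTower.toAlgHom k k' Ω).toLinearMap (algebraMap k' Ω).injective
  exact of_injective (e.symm.toRingHom.comp f.toRingHom) (e.symm.injective.comp hf) h1

/-- Irreducibility over all finite separable extensions gives irreducibility over a separable closure. -/
theorem sepClosure_of_finite (h : ∀ (k' : Type u) [Field k'] [Algebra k k'] [Module.Finite k k']
      [Algebra.IsSeparable k k'], IrreducibleSpace (PrimeSpectrum (k' ⊗[k] R))) :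
    IrreducibleSpace (PrimeSpectrum (SeparableClosure k ⊗[k] R)) := by
  classical
  rw [irreducibleSpace_iff_isPrime_nilradical]
  refine ⟨fun htop => ?_, fun {a b} hab => ?_⟩
  · have hk := h k
    rw [irreducibleSpace_iff_isPrime_nilradical] at hk
    have hinj : Function.Injective (Algebra.TensorProduct.map (Algebra.ofId k (SeparableClosure k)) (AlgHom.id k R)) :=
      Module.Flat.rTensor_preserves_injective_linearMap (M := R)
        (Algebra.ofId k (SeparableClosure k)).toLinearMap (algebraMap k (SeparableClosure k)).injective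
    apply hk.ne_top
    rw [Ideal.eq_top_iff_one, mem_nilradical] at htop ⊢
    rwa [← IsNilpotent.map_iff hinj, map_one]
  · obtain ⟨V, hV, hsub⟩ := TensorProduct.exists_finite_submodule_left_of_setFinite
      ({a, b} : Set (SeparableClosure k ⊗[k] R)) (Set.toFinite _)
    obtain ⟨t, ht⟩ := Module.Finite.iff_fg.1 hV
    let L := IntermediateField.adjoin k (t : Set (SeparableClosure k))
    haveI : FiniteDimensional k L := IntermediateField.finiteDimensional_adjoin fun x _ =>
      (Algebra.IsSeparable.isSeparable k x).isIntegral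
    haveI : Algebra.IsSeparable k L := Algebra.isSeparable_tower_bot_of_isSeparable k L (SeparableClosure k)
    let f : L ⊗[k] R →ₐ[k] SeparableClosure k ⊗[k] R := Algebra.TensorProduct.map L.val (AlgHom.id k R)
    have hf : Function.Injective f :=
      Module.Flat.rTensor_preserves_injective_linearMap (M := R) L.val.toLinearMap Subtype.val_injective
    have hrange : ∀ z : V ⊗[k] R, ∃ w, f w = V.subtype.rTensor R z := fun z => by
      induction z using TensorProduct.induction_on with
      | zero => exact ⟨0, map_zero _⟩
      | tmul v r =>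
        have hv : (v : SeparableClosure k) ∈ L := by
          have h1 : Submodule.span k (t : Set (SeparableClosure k)) ≤ L.toSubalgebra.toSubmodule :=
            Submodule.span_le.2 (IntermediateField.subset_adjoin k _)
          exact h1 (ht.symm ▸ v.2)
        exact ⟨(⟨v, hv⟩ : L) ⊗ₜ r, rfl⟩
      | add x y hx hy =>
        obtain ⟨w, hw⟩ := hx
        obtain ⟨w', hw'⟩ := hy
        exact ⟨w + w', by rw [map_add, map_add, hw, hw']⟩
    obtain ⟨a₀, rfl⟩ := hsub (Set.mem_insert a _)
    obtain ⟨b₀, rfl⟩ := hsub (Set.mem_insert_of_mem _ rfl)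
    obtain ⟨a', ha'⟩ := hrange a₀
    obtain ⟨b', hb'⟩ := hrange b₀
    have hnil : ∀ z, IsNilpotent (f z) ↔ IsNilpotent z := fun z => IsNilpotent.map_iff (f := f.toRingHom) hf
    rw [← ha', ← hb', ← map_mul, mem_nilradical, hnil] at hab
    have hL := h L
    rw [irreducibleSpace_iff_isPrime_nilradical] at hL
    rw [← ha', ← hb', mem_nilradical, mem_nilradical, hnil, hnil]
    exact (hL.mem_or_mem (mem_nilradical.2 hab)).imp mem_nilradical.1 mem_nilradical.1

/-- From a separable closure to an algebraic closure. -/
theorem algClosure_of_sepClosure (h : IrreducibleSpace (PrimeSpectrum (SeparableClosure k ⊗[k] R))) :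
    IrreducibleSpace (PrimeSpectrum (AlgebraicClosure k ⊗[k] R)) := by
  let e := (PrimeSpectrum.isHomeomorph_comap_tensorProductMap_of_isPurelyInseparable (R := k)
    (K := SeparableClosure k) (S := R) (L := AlgebraicClosure k)).homeomorph
  have h1 := ((irreducibleSpace_def _).1 h).image _ e.symm.continuous.continuousOn
  rw [Set.top_eq_univ, Set.image_univ, e.symm.surjective.range_eq] at h1
  exact (irreducibleSpace_def _).2 h1

end Groth.Agent.GeomIrred
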